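import Mathlib
import Groth.Agent.InvCritLib.Basic
import Groth.Agent.ExtBCLib.Main

/-! The top `Ext` out of the canonical module of a smooth complete intersection. -/

universe u

open CategoryTheory Abelian TensorProduct

noncomputable section

namespace DualTopOmegaLib

section ext

variable {A B : Type u} [CommRing A] [CommRing B] [Algebra A B] {N : Type u} [AddCommGroup N]
  [Module A N] [Module B N] [IsScalarTower A B N]

/-- `x ↦ (b ↦ b • x)`. -/
def tau : N →ₗ[A] (ModuleCat.of A B ⟶ ModuleCat.of A N) where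
  toFun x := ModuleCat.ofHom ((LinearMap.toSpanSingleton B N x).restrictScalars A)
  map_add' x y := ModuleCat.hom_ext (LinearMap.ext fun b => smul_add b x y)
  map_smul' r x := ModuleCat.hom_ext (LinearMap.ext fun b => (smul_comm r b x).symm)

variable (F : ModuleCat.{u} A) (p : ℕ)

/-- Evaluation at the cyclic submodules. -/
def phi : Ext (ModuleCat.of A N) F p →ₗ[A] N →ₗ[A] Ext (ModuleCat.of A B) F p where
  toFun c :=
    { toFun := fun x => (Ext.mk₀ (tau x)).comp c (zero_add p)
      map_add' := fun x y => by rw [map_add, Ext.mk₀_add, Ext.add_comp]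
      map_smul' := fun r x => by rw [map_smul, Ext.mk₀_smul, Ext.smul_comp]; rfl }
  map_add' c d := LinearMap.ext fun x => Ext.comp_add _ c d (zero_add p)
  map_smul' r c := LinearMap.ext fun x => Ext.comp_smul _ c (zero_add p) r

theorem phi_bijective (hs : Function.Surjective (algebraMap A B)) [Module.Finite B N]
    [Module.Projective B N] : Function.Bijective (phi (B := B) (N := N) F p) := by
  classical
  obtain ⟨m, q, hq⟩ := Module.Finite.exists_fin' B N
  obtain ⟨s, hqs⟩ := Module.projective_lifting_property q LinearMap.id hq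
  let e : Fin m → N := fun j => q (Pi.single j 1)
  let sj : Fin m → (ModuleCat.of A N ⟶ ModuleCat.of A B) := fun j =>
    ModuleCat.ofHom (((LinearMap.proj j).comp s).restrictScalars A)
  have hsum : ∀ x : N, ∑ j, (s x j) • e j = x := fun x => by
    conv_rhs => rw [← show q (s x) = x from LinearMap.congr_fun hqs x, pi_eq_sum_univ' (s x)]
    simp [e, map_sum, map_smul]
  have hid : ∑ j, sj j ≫ tau (e j) = 𝟙 (ModuleCat.of A N) := by
    refine ModuleCat.hom_ext (LinearMap.ext fun x => ?_)
    rw [ModuleCat.hom_sum, LinearMap.sum_apply]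
    exact hsum x
  constructor
  · refine (injective_iff_map_eq_zero _).2 fun c hc => ?_
    rw [← Ext.mk₀_id_comp c, ← hid, Ext.mk₀_sum, Ext.sum_comp]
    refine Finset.sum_eq_zero fun j _ => ?_
    rw [← Ext.mk₀_comp_mk₀_assoc]
    have : (Ext.mk₀ (tau (B := B) (e j))).comp c (zero_add p) = 0 := LinearMap.congr_fun hc (e j)
    rw [this, Ext.comp_zero]
  · intro h
    refine ⟨∑ j, (Ext.mk₀ (sj j)).comp (h (e j)) (zero_add p), LinearMap.ext fun x => ?_⟩
    choose r hr using fun j => hs (s x j)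
    show (Ext.mk₀ (tau x)).comp _ (zero_add p) = h x
    rw [Ext.comp_sum]
    have hx : h x = ∑ j, r j • h (e j) := by
      conv_lhs => rw [← hsum x]
      rw [map_sum]
      refine Finset.sum_congr rfl fun j _ => ?_
      rw [← hr j, algebraMap_smul, map_smul]
    rw [hx]
    refine Finset.sum_congr rfl fun j _ => ?_
    have hτ : tau (B := B) x ≫ sj j = r j • 𝟙 (ModuleCat.of A B) := by
      refine ModuleCat.hom_ext (LinearMap.ext fun (b : B) => ?_)
      show (s (b • x) j : B) = r j • b
      rw [map_smul, Pi.smul_apply, smul_eq_mul, ← hr j, Algebra.smul_def, mul_comm]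
    rw [Ext.mk₀_comp_mk₀_assoc, hτ, Ext.mk₀_smul, Ext.smul_comp, Ext.mk₀_id_comp]

end ext

section wedge

variable {R : Type u} [CommRing R] {M : Type u} [AddCommGroup M] [Module R M]

theorem invertible_exteriorPower [Module.Finite R M] [Module.Projective R M] (k : ℕ)
    (h : ∀ q : PrimeSpectrum R, Module.rankAtStalk M q = k) : Module.Invertible R ↥(⋀[R]^k M) := by
  classical
  obtain ⟨m, f, hf⟩ := Module.Finite.exists_fin' R M
  obtain ⟨s, hs⟩ := Module.projective_lifting_property f LinearMap.id hf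
  haveI : Module.Projective R ↥(⋀[R]^k M) :=
    Module.Projective.of_split (exteriorPower.map k s) (exteriorPower.map k f)
      (by rw [← exteriorPower.map_comp, hs, exteriorPower.map_id])
  refine Groth.Agent.InvCritLib.invertible_of_rankAtStalk_one fun q => ?_
  let K := q.asIdeal.ResidueField
  let e : K ⊗[R] ↥(⋀[R]^k M) ≃ₗ[K] ↥(⋀[K]^k (K ⊗[R] M)) :=
    LinearEquiv.ofBijective (ExtBC.chi (LinearEquiv.refl K (K ⊗[R] M)) k)
      ⟨ExtBC.chi_injective _ k, ExtBC.chi_surjective _ k⟩
  have h0 := h q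
  rw [Module.rankAtStalk_eq] at h0 ⊢
  change Module.finrank K (K ⊗[R] M) = k at h0
  change Module.finrank K (K ⊗[R] ↥(⋀[R]^k M)) = 1
  rw [e.finrank_eq, exteriorPower.finrank_eq, h0, Nat.choose_self]

open ExteriorAlgebra in
theorem contract_map_eq_zero {Q : Type u} [AddCommGroup Q] [Module R Q] (d : Module.Dual R M)
    (σ : Q →ₗ[R] M) (hd : d ∘ₗ σ = 0) (y : ExteriorAlgebra R Q) :
    CliffordAlgebra.contractLeft (Q := (0 : QuadraticForm R M)) d (map σ y) = 0 := by
  induction y using CliffordAlgebra.left_induction with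
  | algebraMap r => rw [AlgHom.commutes]; exact CliffordAlgebra.contractLeft_algebraMap (Q := (0 : QuadraticForm R M)) d r
  | add _ _ h1 h2 => rw [map_add, map_add, h1, h2, add_zero]
  | ι_mul x a h =>
    rw [map_mul, show map σ (CliffordAlgebra.ι (0 : QuadraticForm R Q) a) = ι R (σ a) from map_apply_ι σ a]
    refine (CliffordAlgebra.contractLeft_ι_mul _ _ _).trans ?_
    rw [h, mul_zero, sub_zero, show d (σ a) = 0 from LinearMap.congr_fun hd a, zero_smul]

open ExteriorAlgebra in
theorem contract_prod_eq_zero (d : Module.Dual R M) :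
    ∀ (p : ℕ) (f : Fin p → M), (∀ i, d (f i) = 0) → ∀ v : ExteriorAlgebra R M,
      CliffordAlgebra.contractLeft (Q := (0 : QuadraticForm R M)) d v = 0 →
      CliffordAlgebra.contractLeft (Q := (0 : QuadraticForm R M)) d
        ((List.ofFn fun i => ι R (f i)).prod * v) = 0
  | 0, _, _, v, hv => by rw [List.ofFn_zero, List.prod_nil, one_mul, hv]
  | p + 1, f, hf, v, hv => by
    rw [List.ofFn_succ, List.prod_cons, mul_assoc]
    refine (CliffordAlgebra.contractLeft_ι_mul _ _ _).trans ?_
    rw [contract_prod_eq_zero d p (fun i => f i.succ) (fun i => hf _) v hv, mul_zero, sub_zero,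
      hf 0, zero_smul]

open ExteriorAlgebra in
theorem contract_mem (d : Module.Dual R M) :
    ∀ (m : ℕ) (v : ExteriorAlgebra R M), v ∈ ⋀[R]^(m + 1) M →
      CliffordAlgebra.contractLeft (Q := (0 : QuadraticForm R M)) d v ∈ ⋀[R]^m M := by
  intro m
  induction m with
  | zero =>
    intro v hv
    rw [exteriorPower, zero_add, pow_one] at hv
    obtain ⟨a, rfl⟩ := hv
    rw [exteriorPower, pow_zero, Submodule.mem_one]
    exact ⟨d a, (CliffordAlgebra.contractLeft_ι _ _ _).symm⟩
  | succ m ih =>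
    intro v hv
    rw [exteriorPower, pow_succ'] at hv
    refine Submodule.mul_induction_on hv (fun a ha b hb => ?_) fun a b ha hb => ?_
    · obtain ⟨a, rfl⟩ := ha
      rw [show CliffordAlgebra.contractLeft d (ι R a * b) =
        d a • b - ι R a * CliffordAlgebra.contractLeft d b from CliffordAlgebra.contractLeft_ι_mul _ _ _]
      refine Submodule.sub_mem _ (Submodule.smul_mem _ _ hb) ?_
      rw [exteriorPower, pow_succ']
      exact Submodule.mul_mem_mul (LinearMap.mem_range_self _ _) (ih b hb)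
    · rw [map_add]
      exact Submodule.add_mem _ ha hb

open ExteriorAlgebra in
theorem exists_contraction {Q : Type u} [AddCommGroup Q] [Module R Q] (σ : Q →ₗ[R] M) :
    ∀ (p : ℕ) (f : Fin p → M) (φ : Fin p → Module.Dual R M),
      (∀ i j, φ i (f j) = if i = j then 1 else 0) → (∀ i, φ i ∘ₗ σ = 0) →
      ∃ D : ExteriorAlgebra R M →ₗ[R] ExteriorAlgebra R M,
        (∀ y, D ((List.ofFn fun i => ι R (f i)).prod * map σ y) = map σ y) ∧
        ∀ m v, v ∈ ⋀[R]^(p + m) M → D v ∈ ⋀[R]^m M
  | 0, _, _, _, _ => ⟨LinearMap.id, fun y => by simp, fun m v hv => by rwa [Nat.zero_add] at hv⟩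
  | p + 1, f, φ, hδ, hσ => by
    obtain ⟨D, h1, h2⟩ := exists_contraction σ p (fun i => f i.succ) (fun i => φ i.succ)
      (fun i j => by rw [hδ]; simp) (fun i => hσ _)
    refine ⟨D ∘ₗ CliffordAlgebra.contractLeft (Q := (0 : QuadraticForm R M)) (φ 0),
      fun y => ?_, fun m v hv => h2 m _ (contract_mem _ _ v ?_)⟩
    · rw [LinearMap.comp_apply, List.ofFn_succ, List.prod_cons, mul_assoc]
      rw [show CliffordAlgebra.contractLeft (φ 0) (ι R (f 0) * _) = _ from
        CliffordAlgebra.contractLeft_ι_mul _ _ _,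
        contract_prod_eq_zero (φ 0) p (fun i => f i.succ)
          (fun i => by rw [hδ]; simp [(Fin.succ_ne_zero i).symm]) _
          (contract_map_eq_zero _ σ (hσ 0) y),
        mul_zero, sub_zero, hδ, if_pos rfl, one_smul]
      exact h1 y
    · rwa [show p + m + 1 = p + 1 + m by omega]

open ExteriorAlgebra in
theorem prod_mem : ∀ (p : ℕ) (f : Fin p → M), (List.ofFn fun i => ι R (f i)).prod ∈ ⋀[R]^p M
  | 0, _ => by rw [exteriorPower, pow_zero, List.ofFn_zero, List.prod_nil]; exact Submodule.one_le.1 le_rfl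
  | p + 1, f => by
    rw [List.ofFn_succ, List.prod_cons, exteriorPower, pow_succ']
    exact Submodule.mul_mem_mul (LinearMap.mem_range_self _ _) (prod_mem p _)

open ExteriorAlgebra in
theorem map_mem {Q : Type u} [AddCommGroup Q] [Module R Q] (σ : Q →ₗ[R] M) (m : ℕ)
    (y : ExteriorAlgebra R Q) (hy : y ∈ ⋀[R]^m Q) : map σ y ∈ ⋀[R]^m M := by
  have h := Submodule.mem_map_of_mem (f := (map σ).toLinearMap) hy
  rw [exteriorPower, Submodule.map_pow] at h
  refine (pow_le_pow_left' ?_ m : _ ≤ (LinearMap.range (ι R (M := M))) ^ m) h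
  rintro - ⟨-, ⟨a, rfl⟩, rfl⟩
  exact ⟨σ a, (map_apply_ι σ a).symm⟩

/-- The determinant of a split extension of a projective module by a free one. -/
theorem nonempty_det_equiv {Q : Type u} [AddCommGroup Q] [Module R Q] [Module.Finite R Q]
    [Module.Projective R Q] [Module.Finite R M] [Module.Projective R M] {p m : ℕ}
    (f : Fin p → M) (φ : Fin p → Module.Dual R M) (hδ : ∀ i j, φ i (f j) = if i = j then 1 else 0)
    (π : M →ₗ[R] Q) (σ : Q →ₗ[R] M) (hπσ : π ∘ₗ σ = LinearMap.id) (hσ : ∀ i, φ i ∘ₗ σ = 0)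
    (hQ : ∀ q : PrimeSpectrum R, Module.rankAtStalk Q q = m)
    (hM : ∀ q : PrimeSpectrum R, Module.rankAtStalk M q = p + m) :
    Nonempty (↥(⋀[R]^m Q) ≃ₗ[R] ↥(⋀[R]^(p + m) M)) := by
  haveI := invertible_exteriorPower m hQ
  haveI := invertible_exteriorPower (p + m) hM
  obtain ⟨D, hD, hDmem⟩ := exists_contraction σ p f φ hδ hσ
  let S : ↥(⋀[R]^(p + m) M) →ₗ[R] ↥(⋀[R]^m Q) :=
    LinearMap.codRestrict _
      (((ExteriorAlgebra.map π).toLinearMap ∘ₗ D) ∘ₗ (⋀[R]^(p + m) M).subtype)
      fun v => map_mem π m _ (hDmem m _ v.2)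
  have hS : Function.Surjective S := fun y => by
    refine ⟨⟨(List.ofFn fun i => ExteriorAlgebra.ι R (f i)).prod * ExteriorAlgebra.map σ y.1, ?_⟩,
      Subtype.ext ?_⟩
    · rw [ExteriorAlgebra.exteriorPower, pow_add]
      exact Submodule.mul_mem_mul (prod_mem p f) (map_mem σ m _ y.2)
    · show ExteriorAlgebra.map π
        (D ((List.ofFn fun i => ExteriorAlgebra.ι R (f i)).prod * ExteriorAlgebra.map σ y.1)) = y.1
      rw [hD]
      exact ExteriorAlgebra.leftInverse_map_iff.2 (LinearMap.congr_fun hπσ) y.1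
  exact ⟨(LinearEquiv.ofBijective S (Module.Invertible.bijective_of_surjective hS)).symm⟩

end wedge

section conormal

theorem syzygy {A : Type u} [CommRing A] : ∀ (p : ℕ) (f : Fin p → A),
    (∀ (i : Fin p) (c : A), c * f i ∈ Ideal.span (f '' {j | j < i}) →
      c ∈ Ideal.span (f '' {j | j < i})) →
    ∀ c : Fin p → A, ∑ i, c i * f i = 0 → ∀ i, c i ∈ Ideal.span (Set.range f)
  | 0, _, _, _, _, i => i.elim0
  | p + 1, f, hreg, c, hc, i => by
    have himg : f '' {j | j < Fin.last p} = Set.range (f ∘ Fin.castSucc) := by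
      rw [Set.range_comp]
      congr 1
      ext j
      simp only [Set.mem_setOf_eq, Fin.lt_last_iff_ne_last, Set.mem_range, Fin.exists_castSucc_eq]
    have hle : Ideal.span (Set.range (f ∘ Fin.castSucc)) ≤ Ideal.span (Set.range f) :=
      Ideal.span_mono (Set.range_comp_subset_range _ _)
    rw [Fin.sum_univ_castSucc] at hc
    have hlast : c (Fin.last p) ∈ Ideal.span (Set.range (f ∘ Fin.castSucc)) := by
      rw [← himg]
      apply hreg
      rw [himg, eq_neg_of_add_eq_zero_right hc]
      exact neg_mem (sum_mem fun j _ => Ideal.mul_mem_left _ _ (Ideal.subset_span ⟨j, rfl⟩))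
    obtain ⟨d, hd⟩ := Ideal.mem_span_range_iff_exists_fun.1 hlast
    have hreg' : ∀ (j : Fin p) (a : A), a * (f ∘ Fin.castSucc) j ∈
        Ideal.span ((f ∘ Fin.castSucc) '' {l | l < j}) →
        a ∈ Ideal.span ((f ∘ Fin.castSucc) '' {l | l < j}) := by
      intro j a ha
      have hi : (f ∘ Fin.castSucc) '' {l | l < j} = f '' {l | l < j.castSucc} := by
        rw [Set.image_comp]
        congr 1
        ext l
        constructor
        · rintro ⟨l, hl, rfl⟩
          exact Fin.castSucc_lt_castSucc_iff.2 hl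
        · intro hl
          have hne : l ≠ Fin.last p := fun h => by
            rw [h] at hl
            exact absurd hl (not_lt.2 (Fin.le_last _))
          obtain ⟨l, rfl⟩ := Fin.exists_castSucc_eq.2 hne
          exact ⟨l, Fin.castSucc_lt_castSucc_iff.1 hl, rfl⟩
      rw [hi] at ha ⊢
      exact hreg j.castSucc a ha
    have key := syzygy p (f ∘ Fin.castSucc) hreg'
      (fun j => c j.castSucc + f (Fin.last p) * d j) (by
        simp only [Function.comp_apply] at hd ⊢
        rw [← hd, Finset.sum_mul] at hc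
        rw [← hc, ← Finset.sum_add_distrib]
        exact Finset.sum_congr rfl fun j _ => by ring)
    induction i using Fin.lastCases with
    | last => exact hle hlast
    | cast j =>
      have h2 : f (Fin.last p) * d j ∈ Ideal.span (Set.range f) :=
        Ideal.mul_mem_right _ _ (Ideal.subset_span ⟨_, rfl⟩)
      have := sub_mem (hle (key j)) h2
      rwa [add_sub_cancel_right] at this

open KaehlerDifferential in
/-- The conormal sequence of a smooth quotient by a regular sequence is split exact and free on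
the left. -/
theorem exists_split {k A B : Type u} [CommRing k] [CommRing A] [CommRing B] [Algebra k A]
    [Algebra k B] [Algebra A B] [IsScalarTower k A B] [Algebra.FormallySmooth k A]
    [Algebra.FormallySmooth k B] (hs : Function.Surjective (algebraMap A B)) {p : ℕ}
    (f : Fin p → A) (hker : RingHom.ker (algebraMap A B) = Ideal.span (Set.range f))
    (hsyz : ∀ c : Fin p → A, ∑ i, c i * f i = 0 → ∀ i, c i ∈ Ideal.span (Set.range f)) :
    ∃ φ : (B ⊗[A] Ω[A⁄k]) →ₗ[B] (Fin p → B),
      (∀ i, φ (1 ⊗ₜ D k A (f i)) = Pi.single i 1) ∧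
      ∀ z, φ z = 0 → mapBaseChange k A B z = 0 → z = 0 := by
  classical
  let I := RingHom.ker (algebraMap A B)
  obtain ⟨l, hl⟩ := (Algebra.FormallySmooth.iff_split_injection (R := k) (P := A) (A := B) hs).1 inferInstance
  have hmem : ∀ i, f i ∈ I := fun i => by
    show f i ∈ RingHom.ker (algebraMap A B)
    rw [hker]
    exact Ideal.subset_span ⟨i, rfl⟩
  let v : Fin p → I.Cotangent := fun i => I.toCotangent ⟨f i, hmem i⟩
  let q0 : (Fin p → A) →ₗ[A] I.Cotangent := Fintype.linearCombination A v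
  have hq0 : ∀ c, q0 c = I.toCotangent (∑ i, c i • ⟨f i, hmem i⟩) := fun c => by
    rw [map_sum]
    simp only [q0, v, Fintype.linearCombination_apply, map_smul]
  have hsurj : Function.Surjective q0 := fun t => by
    obtain ⟨x, rfl⟩ := I.toCotangent_surjective t
    have hx : x.1 ∈ Ideal.span (Set.range f) := hker ▸ x.2
    obtain ⟨c, hc⟩ := Ideal.mem_span_range_iff_exists_fun.1 hx
    refine ⟨c, (hq0 c).trans (congrArg _ (Subtype.ext ?_))⟩
    rw [← hc, Submodule.coe_sum]
    rfl
  let η : (Fin p → A) →ₗ[A] (Fin p → B) := (Algebra.linearMap A B).compLeft (Fin p)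
  have hη : LinearMap.ker q0 ≤ LinearMap.ker η := fun c hc => by
    rw [LinearMap.mem_ker, hq0, Ideal.toCotangent_eq_zero, Submodule.coe_sum, pow_two] at hc
    change (∑ i, c i * f i) ∈ I * RingHom.ker (algebraMap A B) at hc
    rw [hker, Ideal.span, ← smul_eq_mul, Submodule.mem_ideal_smul_span_iff_exists_sum] at hc
    obtain ⟨a, ha, hsum⟩ := hc
    refine LinearMap.mem_ker.2 (funext fun i => ?_)
    have h0 : ∑ i, (c i - a i) * f i = 0 := by
      rw [Finsupp.sum_fintype _ _ (fun _ => by simp)] at hsum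
      simp only [smul_eq_mul] at hsum
      simp only [sub_mul, Finset.sum_sub_distrib, hsum, sub_self]
    have h1 : c i - a i ∈ I := by
      show _ ∈ RingHom.ker (algebraMap A B)
      rw [hker]
      exact hsyz _ h0 i
    show algebraMap A B (c i) = 0
    rw [← sub_add_cancel (c i) (a i)]
    exact RingHom.mem_ker.1 (add_mem h1 (ha i))
  let φ0 : I.Cotangent →ₗ[A] (Fin p → B) :=
    (LinearMap.ker q0).liftQ η hη ∘ₗ (q0.quotKerEquivOfSurjective hsurj).symm.toLinearMap
  have hφ0 : ∀ c, φ0 (q0 c) = η c := fun c => by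
    have : (q0.quotKerEquivOfSurjective hsurj).symm (q0 c) = Submodule.Quotient.mk c := by
      rw [LinearEquiv.symm_apply_eq]
      rfl
    simp [φ0, this]
  let ψ := φ0 ∘ₗ l
  let φ : (B ⊗[A] Ω[A⁄k]) →ₗ[B] (Fin p → B) :=
    { ψ with
      map_smul' := fun b z => by
        obtain ⟨a, rfl⟩ := hs b
        show ψ (algebraMap A B a • z) = algebraMap A B a • ψ z
        rw [algebraMap_smul, algebraMap_smul, map_smul] }
  have hvi : ∀ i, kerCotangentToTensor k A B (v i) = 1 ⊗ₜ D k A (f i) := fun i => rfl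
  refine ⟨φ, fun i => ?_, fun z hz hπ => ?_⟩
  · show φ0 (l _) = _
    rw [← hvi, show l (kerCotangentToTensor k A B (v i)) = v i from LinearMap.congr_fun hl _]
    have : q0 (Pi.single i 1) = v i := by simp [q0, Fintype.linearCombination_apply_single]
    rw [← this, hφ0]
    funext j
    show algebraMap A B ((Pi.single i 1 : Fin p → A) j) = _
    by_cases hj : j = i
    · subst hj; simp
    · simp [Pi.single_eq_of_ne hj]
  · obtain ⟨t, rfl⟩ := (exact_kerCotangentToTensor_mapBaseChange k A B hs z).1 hπ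
    change φ0 (l _) = 0 at hz
    rw [show l (kerCotangentToTensor k A B t) = t from LinearMap.congr_fun hl t] at hz
    obtain ⟨c, rfl⟩ := hsurj t
    rw [hφ0] at hz
    have hc : ∀ i, c i ∈ I := fun i => RingHom.mem_ker.2 (congrFun hz i)
    simp only [q0, Fintype.linearCombination_apply, map_sum, map_smul, hvi]
    refine Finset.sum_eq_zero fun i _ => ?_
    rw [TensorProduct.smul_tmul', ← Algebra.algebraMap_eq_smul_one, RingHom.mem_ker.1 (hc i),
      TensorProduct.zero_tmul]

open KaehlerDifferential in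
theorem nonempty_top_wedge_equiv {k A B : Type u} [CommRing k] [CommRing A] [CommRing B]
    [Algebra k A] [Algebra k B] [Algebra A B] [IsScalarTower k A B] [Algebra.Smooth k A]
    [Algebra.Smooth k B] (hs : Function.Surjective (algebraMap A B)) {p n : ℕ} (hpn : p ≤ n)
    (f : Fin p → A) (hker : RingHom.ker (algebraMap A B) = Ideal.span (Set.range f))
    (hsyz : ∀ c : Fin p → A, ∑ i, c i * f i = 0 → ∀ i, c i ∈ Ideal.span (Set.range f))
    (hn : ∀ q : PrimeSpectrum A, Module.rankAtStalk Ω[A⁄k] q = n) :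
    Module.Invertible B ↥(⋀[B]^(n - p) Ω[B⁄k]) ∧
      Nonempty (↥(⋀[B]^(n - p) Ω[B⁄k]) ≃ₗ[B] B ⊗[A] ↥(⋀[A]^n Ω[A⁄k])) := by
  classical
  obtain ⟨φ, hφ, hinj⟩ := exists_split (k := k) hs f hker hsyz
  let π := mapBaseChange k A B
  obtain ⟨σ₀, hσ₀⟩ := Module.projective_lifting_property π LinearMap.id
    (mapBaseChange_surjective k A B hs)
  let v : Fin p → B ⊗[A] Ω[A⁄k] := fun i => 1 ⊗ₜ D k A (f i)
  let ι' : (Fin p → B) →ₗ[B] B ⊗[A] Ω[A⁄k] := Fintype.linearCombination B v
  have hπv : ∀ i, π (v i) = 0 := fun i => by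
    have : f i ∈ RingHom.ker (algebraMap A B) := by rw [hker]; exact Ideal.subset_span ⟨i, rfl⟩
    simp [π, v, RingHom.mem_ker.1 this]
  have hφι : ∀ c, φ (ι' c) = c := fun c => by
    conv_rhs => rw [pi_eq_sum_univ' c]
    simp only [ι', Fintype.linearCombination_apply, map_sum, map_smul]
    exact Finset.sum_congr rfl fun i _ => congrArg (c i • ·) (hφ i)
  have hπι : ∀ c, π (ι' c) = 0 := fun c => by
    simp only [ι', Fintype.linearCombination_apply, map_sum, map_smul, hπv, smul_zero,
      Finset.sum_const_zero]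
  let σ := σ₀ - ι' ∘ₗ φ ∘ₗ σ₀
  have hπσ : π ∘ₗ σ = LinearMap.id := LinearMap.ext fun x => by
    simp [σ, hπι, show π (σ₀ x) = x from LinearMap.congr_fun hσ₀ x]
  have hφσ : ∀ x, φ (σ x) = 0 := fun x => by simp [σ, hφι]
  let eq : (B ⊗[A] Ω[A⁄k]) ≃ₗ[B] (Fin p → B) × Ω[B⁄k] :=
    LinearEquiv.ofBijective (φ.prod π) ⟨(injective_iff_map_eq_zero _).2 fun z hz =>
      hinj z (congrArg Prod.fst hz) (congrArg Prod.snd hz), fun w => ⟨ι' w.1 + σ w.2, by
        simp [hφι, hπι, hφσ, show π (σ w.2) = w.2 from LinearMap.congr_fun hπσ _]⟩⟩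
  have hE : ∀ q : PrimeSpectrum B, Module.rankAtStalk (B ⊗[A] Ω[A⁄k]) q = n := fun q => by
    rw [Module.rankAtStalk_baseChange, hn]
  have hQ : ∀ q : PrimeSpectrum B, Module.rankAtStalk Ω[B⁄k] q = n - p := fun q => by
    haveI : Nontrivial B := q.nontrivial
    have := hE q
    rw [Module.rankAtStalk_eq_of_equiv eq, Module.rankAtStalk_prod, Pi.add_apply,
      Module.rankAtStalk_eq_finrank_of_free] at this
    simp at this
    omega
  refine ⟨invertible_exteriorPower _ hQ, ?_⟩
  obtain ⟨e1⟩ := nonempty_det_equiv (p := p) (m := n - p) v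
    (fun i => (LinearMap.proj i).comp φ)
    (fun i j => by simp [v, hφ, Pi.single_apply]) π σ hπσ
    (fun i => LinearMap.ext fun x => by simp [hφσ]) hQ
    (fun q => by rw [hE]; omega)
  rw [Nat.add_sub_cancel' hpn] at e1
  exact ⟨e1.trans (LinearEquiv.ofBijective (ExtBC.chi (LinearEquiv.refl B (B ⊗[A] Ω[A⁄k])) n)
    ⟨ExtBC.chi_injective _ n, ExtBC.chi_surjective _ n⟩).symm⟩

end conormal

end DualTopOmegaLib
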